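import Cfsg.Agent.Helper11.SchU43.Tab

set_option autoImplicit false
set_option linter.all false
set_option maxRecDepth 1000000
set_option maxHeartbeats 0

namespace Cfsg.Agent.Helper11.SchU43

theorem okF0 : OKF [2, 2] 84263 748289016719426420267426210946498052863775253495808 := by decide +kernel
theorem okF1 : OKF [2, 2] 201 748289016719426417671278710134113702668917618540544 := by decide +kernel
theorem okF2 : OKF [2, 0, 2, 0, 2, 0, 2, 0, 2, 0] 81548 3741445083624354675113916794144895271984425425076224 := by decide +kernel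
theorem okF3 : OKF [0, 0, 2, 1, 1, 2, 0, 0, 0, 2, 1, 1, 2, 0, 0, 0, 2, 1, 1, 2, 0, 0, 0, 2, 1, 1, 2, 0] 1808 10476046234061080819444868533268287573203081671147520 := by decide +kernel
theorem okF4 : OKF [0, 0, 2, 0, 0, 0, 2, 0, 0, 0, 2, 0, 2, 1, 2, 1, 1, 2, 1, 2, 0, 2, 0] 23875 8605392200211654326765269978355454447922909454647296 := by decide +kernel

end Cfsg.Agent.Helper11.SchU43
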