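import Mathlib
import Cfsg.Agent.Helper19.TCR.Lab
import Cfsg.Agent.Helper11.SchU43.Chk0
import Cfsg.Agent.Helper11.SchU43.Chk1
import Cfsg.Agent.Helper11.SchU43.Chk2
import Cfsg.Agent.Helper11.SchU43.Chk3
import Cfsg.Agent.Helper11.SchU43.Chk4
import Cfsg.Agent.Helper11.SchU43.Chk5
import Cfsg.Agent.Helper11.SchU43.Chk6
import Cfsg.Agent.Helper11.SchU43.Chk7
import Cfsg.Agent.Helper11.SchU43.Chk8
import Cfsg.Agent.Helper11.SchU43.Chk9
import Cfsg.Agent.Helper11.SchU43.Chk10
import Cfsg.Agent.Helper11.SchU43.Chk11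
import Cfsg.Agent.Helper11.SchU43.Chk12
import Cfsg.Agent.Helper11.SchU43.Chk13
import Cfsg.Agent.Helper11.SchU43.Chk14
import Cfsg.Agent.Helper11.SchU43.Chk15
import Cfsg.Agent.Helper11.SchU43.Chk16
import Cfsg.Agent.Helper11.SchU43.Chk17
import Cfsg.Agent.Helper11.SchU43.Chk18
import Cfsg.Agent.Helper11.SchU43.Chk19
import Cfsg.Agent.Helper11.SchU43.Chk20
import Cfsg.Agent.Helper11.SchU43.Chk21
import Cfsg.Agent.Helper11.SchU43.Chk22
import Cfsg.Agent.Helper11.SchU43.Chk23
import Cfsg.Agent.Helper11.SchU43.Chk24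
import Cfsg.Agent.Helper11.SchU43.Chk25
import Cfsg.Agent.Helper11.SchU43.Chk26
import Cfsg.Agent.Helper11.SchU43.Chk27
import Cfsg.Agent.Helper11.SchU43.Chk28
import Cfsg.Agent.Helper11.SchU43.Chk29
import Cfsg.Agent.Helper11.SchU43.Chk30
import Cfsg.Agent.Helper11.SchU43.Chk31
import Cfsg.Agent.Helper11.SchU43.Chk32
import Cfsg.Agent.Helper11.SchU43.Chk33
import Cfsg.Agent.Helper11.SchU43.Chk34
import Cfsg.Agent.Helper11.SchU43.Chk35
import Cfsg.Agent.Helper11.SchU43.Chk36
import Cfsg.Agent.Helper11.SchU43.Chk37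
import Cfsg.Agent.Helper11.SchU43.Chk38
import Cfsg.Agent.Helper11.SchU43.Chk39
import Cfsg.Agent.Helper11.SchU43.Chk40
import Cfsg.Agent.Helper11.SchU43.Chk41
import Cfsg.Agent.Helper11.SchU43.Chk42
import Cfsg.Agent.Helper11.SchU43.Chk43
import Cfsg.Agent.Helper11.SchU43.Chk44
import Cfsg.Agent.Helper11.SchU43.Chk45
import Cfsg.Agent.Helper11.SchU43.Chk46
import Cfsg.Agent.Helper11.SchU43.Chk47
import Cfsg.Agent.Helper11.SchU43.Chk48
import Cfsg.Agent.Helper11.SchU43.Chk49
import Cfsg.Agent.Helper11.SchU43.Chk50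
import Cfsg.Agent.Helper11.SchU43.Chk51
import Cfsg.Agent.Helper11.SchU43.Chk52
import Cfsg.Agent.Helper11.SchU43.Chk53
import Cfsg.Agent.Helper11.SchU43.Chk54
import Cfsg.Agent.Helper11.SchU43.Chk55
import Cfsg.Agent.Helper11.SchU43.Chk56
import Cfsg.Agent.Helper11.SchU43.Chk57
import Cfsg.Agent.Helper11.SchU43.Chk58
import Cfsg.Agent.Helper11.SchU43.ChkT
import Cfsg.Agent.Helper11.SchU43.ChkF

set_option autoImplicit false
set_option linter.all false
set_option maxRecDepth 1000000
set_option maxHeartbeats 0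

namespace Cfsg.Agent.Helper11.SchU43

open Cfsg.Agent.Helper19.TCS Cfsg.Agent.Helper19.TCL

theorem okR_all : ∀ p, p < 117 → OKR (p * 4000) 4000 := by
  intro p hp
  interval_cases p
  · exact okR0
  · exact okR1
  · exact okR2
  · exact okR3
  · exact okR4
  · exact okR5
  · exact okR6
  · exact okR7
  · exact okR8
  · exact okR9
  · exact okR10
  · exact okR11
  · exact okR12
  · exact okR13
  · exact okR14
  · exact okR15
  · exact okR16
  · exact okR17
  · exact okR18
  · exact okR19
  · exact okR20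
  · exact okR21
  · exact okR22
  · exact okR23
  · exact okR24
  · exact okR25
  · exact okR26
  · exact okR27
  · exact okR28
  · exact okR29
  · exact okR30
  · exact okR31
  · exact okR32
  · exact okR33
  · exact okR34
  · exact okR35
  · exact okR36
  · exact okR37
  · exact okR38
  · exact okR39
  · exact okR40
  · exact okR41
  · exact okR42
  · exact okR43
  · exact okR44
  · exact okR45
  · exact okR46
  · exact okR47
  · exact okR48
  · exact okR49
  · exact okR50
  · exact okR51
  · exact okR52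
  · exact okR53
  · exact okR54
  · exact okR55
  · exact okR56
  · exact okR57
  · exact okR58
  · exact okR59
  · exact okR60
  · exact okR61
  · exact okR62
  · exact okR63
  · exact okR64
  · exact okR65
  · exact okR66
  · exact okR67
  · exact okR68
  · exact okR69
  · exact okR70
  · exact okR71
  · exact okR72
  · exact okR73
  · exact okR74
  · exact okR75
  · exact okR76
  · exact okR77
  · exact okR78
  · exact okR79
  · exact okR80
  · exact okR81
  · exact okR82
  · exact okR83
  · exact okR84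
  · exact okR85
  · exact okR86
  · exact okR87
  · exact okR88
  · exact okR89
  · exact okR90
  · exact okR91
  · exact okR92
  · exact okR93
  · exact okR94
  · exact okR95
  · exact okR96
  · exact okR97
  · exact okR98
  · exact okR99
  · exact okR100
  · exact okR101
  · exact okR102
  · exact okR103
  · exact okR104
  · exact okR105
  · exact okR106
  · exact okR107
  · exact okR108
  · exact okR109
  · exact okR110
  · exact okR111
  · exact okR112
  · exact okR113
  · exact okR114
  · exact okR115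
  · exact okR116

theorem okT_all : ∀ p, p < 24 → OKT (p * 20000) 20000 := by
  intro p hp
  interval_cases p
  · exact okT0
  · exact okT1
  · exact okT2
  · exact okT3
  · exact okT4
  · exact okT5
  · exact okT6
  · exact okT7
  · exact okT8
  · exact okT9
  · exact okT10
  · exact okT11
  · exact okT12
  · exact okT13
  · exact okT14
  · exact okT15
  · exact okT16
  · exact okT17
  · exact okT18
  · exact okT19
  · exact okT20
  · exact okT21
  · exact okT22
  · exact okT23

theorem okAll : ∀ i l, i < 466560 → l < 4 → OKE i l := by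
  intro i l hi hl
  have hp : i / 4000 < 117 := by omega
  have h1 : i / 4000 * 4000 ≤ i := Nat.div_mul_le_self i 4000
  have h2 : i < i / 4000 * 4000 + 4000 := by omega
  exact okRowsL_spec (i / 4000 * 4000) 4000 (okR_all (i / 4000) hp) i h1 h2 hi l hl

theorem treeAll : ∀ j, 0 < j → j < 466560 → parF j < j := by
  intro j h0 hj
  have hp : j / 20000 < 24 := by omega
  have h1 : j / 20000 * 20000 ≤ j := Nat.div_mul_le_self j 20000
  have h2 : j < j / 20000 * 20000 + 20000 := by omega
  exact okTree_spec (j / 20000 * 20000) 20000 (okT_all (j / 20000) hp) j h1 h2 h0 hj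

theorem rotsF_ok : ∀ r, r < 45 → rotsF r = rotL.getD r ([], 0, 0) := by
  have h : (List.range 45).all (fun r => rotsF r == rotL.getD r ([], 0, 0)) = true := by decide +kernel
  intro r hr
  have := forall_lt_of_all h r hr
  exact beq_iff_eq.mp this

theorem rotL_ok : (List.range 45).all (fun r =>
    rotOKL 4 subs.length 8 4194304 32768 16384 rels (rotL.getD r ([], 0, 0)) (rotIdx.getD r (0, 0))) = true := by
  decide +kernel

theorem subL_ok : (List.range subL.length).all (fun s =>
    subOKL 4 8 4194304 32768 16384 subs (subL.getD s ([], 0, [], 0)) (subIdx.getD s 0)) = true := by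
  decide +kernel

theorem subsF_ok : ∀ s, (subsF s).2.1 < 4 → s < subL.length ∧ subsF s = subL.getD s ([], 0, [], 0) := by
  intro s hs
  unfold subsF at hs ⊢
  by_cases h : s < subL.length
  · refine ⟨h, ?_⟩
    rw [List.getD_eq_getElem _ _ h, List.getD_eq_getElem _ _ h]
  · rw [List.getD_eq_default _ _ (not_lt.mp h)] at hs
    simp at hs

/-- the labelled table is closed, for any group with generators `gc` whose relator values are central. -/
theorem closedL {Γ : Type*} [Group Γ] {C : Type*} [CommGroup C] (gc : ℕ → Γ) (ι : C →* Γ) (gen : ℕ → C)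
    (hinv : ∀ l, l < 4 → gc (invF l) = (gc l)⁻¹)
    (hrels : ∀ ρ, ρ < rels.length → prodw gc (rels.getD ρ []) = ι (gen (subs.length + ρ)) ∧
      ∀ g : Γ, Commute (prodw gc (rels.getD ρ [])) g)
    (hsubs : ∀ s, s < subs.length → prodw gc (subs.getD s []) = ι (gen s)) :
    SemL 466560 4 1048576 8 4194304 32768 16384 374144508359713208835639045582047029989390099169280 invF 45 rotsF subsF gc ι gen ∧
      ∀ i l, i < 466560 → l < 4 → FactL gc ι gen 466560 524288 35184372088832 8 4194304 32768 16384 ent parF pletF i l := by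
  have S : SemL 466560 4 1048576 8 4194304 32768 16384 374144508359713208835639045582047029989390099169280 invF 45 rotsF subsF gc ι gen :=
    semL_of_data rels subs rotL rotIdx subL subIdx
      (by intro l hl; interval_cases l <;> decide) hinv (by norm_num) (by norm_num) (by norm_num)
      (by decide +kernel) (by norm_num) (by norm_num) rotsF_ok rotL_ok hrels subsF_ok subL_ok hsubs
  exact ⟨S, closed_of_okL S treeAll okAll⟩


theorem face0 {Γ : Type*} [Group Γ] {C : Type*} [CommGroup C] (gc : ℕ → Γ) (ι : C →* Γ) (gen : ℕ → C)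
    (hinv : ∀ l, l < 4 → gc (invF l) = (gc l)⁻¹)
    (hrels : ∀ ρ, ρ < rels.length → prodw gc (rels.getD ρ []) = ι (gen (subs.length + ρ)) ∧
      ∀ g : Γ, Commute (prodw gc (rels.getD ρ [])) g)
    (hsubs : ∀ s, s < subs.length → prodw gc (subs.getD s []) = ι (gen s)) :
    ι (gen (subs.length + 0)) = ι (dsem gen 16384 2 0 [32768, 32765, 32766, 32768, 32767, 32770, 32768, 32768]) := by
  obtain ⟨S, hcl⟩ := closedL gc ι gen hinv hrels hsubs
  have hw : [2, 2] = (rels.getD 0 []).rotate 0 := by decide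
  obtain ⟨h1, h2⟩ := hrels 0 (by decide)
  have hcen : ∀ g : Γ, Commute (prodw gc [2, 2]) g := by
    rw [hw, prodw_rotate_central h2]; exact h2
  have h3 := face_spec S hcl (w := [2, 2]) (b := 84263) (expected := 748289016719426420267426210946498052863775253495808) (by norm_num) (by decide) (by norm_num)
    [32768, 32765, 32766, 32768, 32767, 32770, 32768, 32768] (by decide) (by decide) (by decide +kernel) hcen okF0
  rw [← h1, ← prodw_rotate_central h2 0, ← hw]
  exact h3


theorem face1 {Γ : Type*} [Group Γ] {C : Type*} [CommGroup C] (gc : ℕ → Γ) (ι : C →* Γ) (gen : ℕ → C)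
    (hinv : ∀ l, l < 4 → gc (invF l) = (gc l)⁻¹)
    (hrels : ∀ ρ, ρ < rels.length → prodw gc (rels.getD ρ []) = ι (gen (subs.length + ρ)) ∧
      ∀ g : Γ, Commute (prodw gc (rels.getD ρ [])) g)
    (hsubs : ∀ s, s < subs.length → prodw gc (subs.getD s []) = ι (gen s)) :
    ι (gen (subs.length + 0)) = ι (dsem gen 16384 2 0 [32768, 32761, 32768, 32768, 32770, 32768, 32768, 32768]) := by
  obtain ⟨S, hcl⟩ := closedL gc ι gen hinv hrels hsubs
  have hw : [2, 2] = (rels.getD 0 []).rotate 0 := by decide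
  obtain ⟨h1, h2⟩ := hrels 0 (by decide)
  have hcen : ∀ g : Γ, Commute (prodw gc [2, 2]) g := by
    rw [hw, prodw_rotate_central h2]; exact h2
  have h3 := face_spec S hcl (w := [2, 2]) (b := 201) (expected := 748289016719426417671278710134113702668917618540544) (by norm_num) (by decide) (by norm_num)
    [32768, 32761, 32768, 32768, 32770, 32768, 32768, 32768] (by decide) (by decide) (by decide +kernel) hcen okF1
  rw [← h1, ← prodw_rotate_central h2 0, ← hw]
  exact h3


theorem face2 {Γ : Type*} [Group Γ] {C : Type*} [CommGroup C] (gc : ℕ → Γ) (ι : C →* Γ) (gen : ℕ → C)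
    (hinv : ∀ l, l < 4 → gc (invF l) = (gc l)⁻¹)
    (hrels : ∀ ρ, ρ < rels.length → prodw gc (rels.getD ρ []) = ι (gen (subs.length + ρ)) ∧
      ∀ g : Γ, Commute (prodw gc (rels.getD ρ [])) g)
    (hsubs : ∀ s, s < subs.length → prodw gc (subs.getD s []) = ι (gen s)) :
    ι (gen (subs.length + 2)) = ι (dsem gen 16384 10 0 [163840, 163842, 163842, 163837, 163839, 163838, 163845, 163840]) := by
  obtain ⟨S, hcl⟩ := closedL gc ι gen hinv hrels hsubs
  have hw : [2, 0, 2, 0, 2, 0, 2, 0, 2, 0] = (rels.getD 2 []).rotate 1 := by decide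
  obtain ⟨h1, h2⟩ := hrels 2 (by decide)
  have hcen : ∀ g : Γ, Commute (prodw gc [2, 0, 2, 0, 2, 0, 2, 0, 2, 0]) g := by
    rw [hw, prodw_rotate_central h2]; exact h2
  have h3 := face_spec S hcl (w := [2, 0, 2, 0, 2, 0, 2, 0, 2, 0]) (b := 81548) (expected := 3741445083624354675113916794144895271984425425076224) (by norm_num) (by decide) (by norm_num)
    [163840, 163842, 163842, 163837, 163839, 163838, 163845, 163840] (by decide) (by decide) (by decide +kernel) hcen okF2
  rw [← h1, ← prodw_rotate_central h2 1, ← hw]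
  exact h3


theorem face3 {Γ : Type*} [Group Γ] {C : Type*} [CommGroup C] (gc : ℕ → Γ) (ι : C →* Γ) (gen : ℕ → C)
    (hinv : ∀ l, l < 4 → gc (invF l) = (gc l)⁻¹)
    (hrels : ∀ ρ, ρ < rels.length → prodw gc (rels.getD ρ []) = ι (gen (subs.length + ρ)) ∧
      ∀ g : Γ, Commute (prodw gc (rels.getD ρ [])) g)
    (hsubs : ∀ s, s < subs.length → prodw gc (subs.getD s []) = ι (gen s)) :
    ι (gen (subs.length + 5)) = ι (dsem gen 16384 28 0 [458752, 458755, 458752, 458746, 458752, 458758, 458750, 458752]) := by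
  obtain ⟨S, hcl⟩ := closedL gc ι gen hinv hrels hsubs
  have hw : [0, 0, 2, 1, 1, 2, 0, 0, 0, 2, 1, 1, 2, 0, 0, 0, 2, 1, 1, 2, 0, 0, 0, 2, 1, 1, 2, 0] = (rels.getD 5 []).rotate 1 := by decide
  obtain ⟨h1, h2⟩ := hrels 5 (by decide)
  have hcen : ∀ g : Γ, Commute (prodw gc [0, 0, 2, 1, 1, 2, 0, 0, 0, 2, 1, 1, 2, 0, 0, 0, 2, 1, 1, 2, 0, 0, 0, 2, 1, 1, 2, 0]) g := by
    rw [hw, prodw_rotate_central h2]; exact h2
  have h3 := face_spec S hcl (w := [0, 0, 2, 1, 1, 2, 0, 0, 0, 2, 1, 1, 2, 0, 0, 0, 2, 1, 1, 2, 0, 0, 0, 2, 1, 1, 2, 0]) (b := 1808) (expected := 10476046234061080819444868533268287573203081671147520) (by norm_num) (by decide) (by norm_num)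
    [458752, 458755, 458752, 458746, 458752, 458758, 458750, 458752] (by decide) (by decide) (by decide +kernel) hcen okF3
  rw [← h1, ← prodw_rotate_central h2 1, ← hw]
  exact h3


theorem face4 {Γ : Type*} [Group Γ] {C : Type*} [CommGroup C] (gc : ℕ → Γ) (ι : C →* Γ) (gen : ℕ → C)
    (hinv : ∀ l, l < 4 → gc (invF l) = (gc l)⁻¹)
    (hrels : ∀ ρ, ρ < rels.length → prodw gc (rels.getD ρ []) = ι (gen (subs.length + ρ)) ∧
      ∀ g : Γ, Commute (prodw gc (rels.getD ρ [])) g)
    (hsubs : ∀ s, s < subs.length → prodw gc (subs.getD s []) = ι (gen s)) :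
    ι (gen (subs.length + 4)) = ι (dsem gen 16384 23 0 [376832, 376824, 376842, 376829, 376838, 376814, 376841, 376835]) := by
  obtain ⟨S, hcl⟩ := closedL gc ι gen hinv hrels hsubs
  have hw : [0, 0, 2, 0, 0, 0, 2, 0, 0, 0, 2, 0, 2, 1, 2, 1, 1, 2, 1, 2, 0, 2, 0] = (rels.getD 4 []).rotate 1 := by decide
  obtain ⟨h1, h2⟩ := hrels 4 (by decide)
  have hcen : ∀ g : Γ, Commute (prodw gc [0, 0, 2, 0, 0, 0, 2, 0, 0, 0, 2, 0, 2, 1, 2, 1, 1, 2, 1, 2, 0, 2, 0]) g := by
    rw [hw, prodw_rotate_central h2]; exact h2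
  have h3 := face_spec S hcl (w := [0, 0, 2, 0, 0, 0, 2, 0, 0, 0, 2, 0, 2, 1, 2, 1, 1, 2, 1, 2, 0, 2, 0]) (b := 23875) (expected := 8605392200211654326765269978355454447922909454647296) (by norm_num) (by decide) (by norm_num)
    [376832, 376824, 376842, 376829, 376838, 376814, 376841, 376835] (by decide) (by decide) (by decide +kernel) hcen okF4
  rw [← h1, ← prodw_rotate_central h2 1, ← hw]
  exact h3

end Cfsg.Agent.Helper11.SchU43
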