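import Mathlib
import Cfsg.Agent.Helper11.SchU43.Facts
import Cfsg.Agent.Helper19.Schur.Cover
import Cfsg.Agent.Helper23.Schur2.Upper

/-! Instance of helper19's labelled Todd–Coxeter pipeline (upper bound: relation lattice of the
central relator symbols); generated by helper11's `emit_all.py`. -/

set_option autoImplicit false
set_option linter.all false
set_option maxRecDepth 100000

namespace Cfsg.Agent.Helper11.SchU43

open Cfsg Cfsg.Agent.Helper19.TCS Cfsg.Agent.Helper19.TCL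
  Cfsg.Agent.Helper19.Schur

universe u

theorem invF_eq : ∀ l, l < 4 → invF l = inv4 l := by
  intro l hl
  interval_cases l <;> rfl

theorem prodw_replicate' {Δ : Type*} [Group Δ] (gc : ℕ → Δ) (l n : ℕ) :
    prodw gc (List.replicate n l) = gc l ^ n := by
  induction n with
  | zero => simp [prodw]
  | succ n ih => rw [List.replicate_succ, prodw, ih, pow_succ]

theorem hcen_of_trivial {Δ : Type u} [Group Δ] (a b : Δ)
    (h : ∀ w ∈ rels, prodw (gc2 a b) w = 1) :
    ∀ ρ g, Commute (prodw (gc2 a b) (rels.getD ρ [])) g := by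
  intro ρ g
  have : prodw (gc2 a b) (rels.getD ρ []) = 1 :=
    forall_getD_of_forall_mem (fun w => prodw (gc2 a b) w = 1) rels [] h rfl ρ
  rw [this]
  exact Commute.one_left g

theorem closedL' {Δ : Type u} [Group Δ] (a b : Δ)
    (hcen : ∀ ρ g, Commute (prodw (gc2 a b) (rels.getD ρ [])) g) :
    SemL 466560 4 1048576 8 4194304 32768 16384 374144508359713208835639045582047029989390099169280 invF 45 rotsF subsF
        (gc2 a b) (iotaC (gfam a b rels 8) (gfam_comm a b rels 8 hcen)) (genC 8) ∧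
      ∀ i l, i < 466560 → l < 4 →
        FactL (gc2 a b) (iotaC (gfam a b rels 8) (gfam_comm a b rels 8 hcen)) (genC 8)
          466560 524288 35184372088832 8 4194304 32768 16384 ent parF pletF i l :=
  closedL (gc2 a b) _ (genC 8) (gc2_invF a b invF invF_eq)
    (bridge_rels a b rels 8 (by decide) hcen) (bridge_subs a b rels 8 (by norm_num) hcen)

theorem hT1 (Δ : Type u) [Group Δ] (a b : Δ)
    (hgen : Subgroup.closure {a, b} = (⊤ : Subgroup Δ))
    (hrel : ∀ w ∈ rels, prodw (gc2 a b) w = 1) : Finite Δ ∧ Nat.card Δ ≤ 3265920 := by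
  have hcen := hcen_of_trivial a b hrel
  obtain ⟨S, hcl⟩ := closedL' a b hcen
  have ha : a ^ 7 = 1 := by
    have h1 := hrel (List.replicate 7 0) (by decide)
    rw [prodw_replicate'] at h1
    exact h1
  have hι : ∀ c, iotaC (gfam a b rels 8) (gfam_comm a b rels 8 hcen) c ∈ Subgroup.zpowers a := by
    intro c
    apply iotaC_mem
    intro i
    unfold gfam
    split_ifs with h
    · exact Subgroup.mem_zpowers a
    · have : prodw (gc2 a b) (rels.getD ((i : ℕ) - 1) []) = 1 :=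
        forall_getD_of_forall_mem (fun w => prodw (gc2 a b) w = 1) rels [] hrel rfl _
      rw [this]
      exact one_mem _
  have := card_le_of_factL a b hgen _ (genC 8) S hcl 7 (by norm_num) ha hι
  exact this

/-- the relations among the relator symbols found by the faces. -/
def lam : Fin 5 → Fin 8 → ℤ :=
  ![![0, -4, -2, 0, -1, 2, 0, 0],
    ![0, -8, 0, 0, 2, 0, 0, 0],
    ![0, 2, 2, -4, -1, -2, 5, 0],
    ![0, 3, 0, -6, 0, 6, -3, 0],
    ![0, -8, 10, -3, 6, -19, 9, 3]]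

theorem hT2 (Δ : Type u) [Group Δ] (a b : Δ)
    (hcen : ∀ ρ g, Commute (prodw (gc2 a b) (rels.getD ρ [])) g) (j : Fin 5) :
    Psi (gfam a b rels 8) (gfam_comm a b rels 8 hcen) (lam j) = 1 := by
  have hinv := gc2_invF a b invF invF_eq
  have hrels := bridge_rels a b rels 8 (by decide) hcen
  have hsubs := bridge_subs a b rels 8 (by norm_num) hcen
  fin_cases j
  · exact psi_eq_one_of_face _ _ 16384 2 [32768, 32765, 32766, 32768, 32767, 32770, 32768, 32768] rfl
      ⟨1, by norm_num⟩ _ (face0 (gc2 a b) _ (genC 8) hinv hrels hsubs) (by decide)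
  · exact psi_eq_one_of_face _ _ 16384 2 [32768, 32761, 32768, 32768, 32770, 32768, 32768, 32768] rfl
      ⟨1, by norm_num⟩ _ (face1 (gc2 a b) _ (genC 8) hinv hrels hsubs) (by decide)
  · exact psi_eq_one_of_face _ _ 16384 10 [163840, 163842, 163842, 163837, 163839, 163838, 163845, 163840] rfl
      ⟨3, by norm_num⟩ _ (face2 (gc2 a b) _ (genC 8) hinv hrels hsubs) (by decide)
  · exact psi_eq_one_of_face _ _ 16384 28 [458752, 458755, 458752, 458746, 458752, 458758, 458750, 458752] rfl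
      ⟨6, by norm_num⟩ _ (face3 (gc2 a b) _ (genC 8) hinv hrels hsubs) (by decide)
  · exact psi_eq_one_of_face _ _ 16384 23 [376832, 376824, 376842, 376829, 376838, 376814, 376841, 376835] rfl
      ⟨5, by norm_num⟩ _ (face4 (gc2 a b) _ (genC 8) hinv hrels hsubs) (by decide)

/-! ### The lattice data -/

def e1 : Fin 8 → ℤ := ![0, 0, 7, 5, 0, 7, 4, 14]
def e2 : Fin 8 → ℤ := ![0, 2, 0, 5, 8, 8, 8, 21]
def c1 : Fin 8 → ℤ := ![0, -5799, -1673, 2481, 0, -93, 0, -3]
def c2 : Fin 8 → ℤ := ![0, 28993, 8365, -12404, 0, 465, 0, 15]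
def g01 : Fin 8 → ℤ := ![0, 1874, 541, -805, 0, 32, 0, 1]
def g02 : Fin 8 → ℤ := ![0, -2287, -658, 959, 0, -25, 0, -1]

theorem he1 : ∀ c : Fin 8, e1 c = if (c : ℕ) = 0 then 0 else es0 (rels.getD ((c : ℕ) - 1) []) := by
  decide

theorem he2 : ∀ c : Fin 8, e2 c = if (c : ℕ) = 0 then 0 else es1 (rels.getD ((c : ℕ) - 1) []) := by
  decide

theorem Efun_eq (e v : Fin 8 → ℤ) : Efun e v =
    v 0 * e 0 + v 1 * e 1 + v 2 * e 2 + v 3 * e 3 + v 4 * e 4 + v 5 * e 5 + v 6 * e 6 + v 7 * e 7 := by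
  unfold Efun
  rw [Fin.sum_univ_eight]

theorem hc1 : (∀ c : Fin 8, (c : ℕ) = 0 → c1 c = 0) ∧ Efun e1 c1 = 1 ∧ Efun e2 c1 = 0 := by
  refine ⟨by decide, ?_, ?_⟩ <;> rw [Efun_eq] <;> decide

theorem hc2 : (∀ c : Fin 8, (c : ℕ) = 0 → c2 c = 0) ∧ Efun e1 c2 = 0 ∧ Efun e2 c2 = 1 := by
  refine ⟨by decide, ?_, ?_⟩ <;> rw [Efun_eq] <;> decide

theorem hg01 : ∀ c : Fin 8, (c : ℕ) = 0 → g01 c = 0 := by decide

theorem hg02 : ∀ c : Fin 8, (c : ℕ) = 0 → g02 c = 0 := by decide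

theorem hL1 : ∀ v : Fin 8 → ℤ, (∀ c : Fin 8, (c : ℕ) = 0 → v c = 0) → Efun e1 v = 0 →
    Efun e2 v = 0 → ∃ (cf : Fin 5 → ℤ) (t1 t2 : ℤ), v = ∑ j, cf j • lam j + t1 • g01 + t2 • g02 := by
  intro v h0 h1 h2
  have h0' : v 0 = 0 := h0 0 rfl
  rw [Efun_eq] at h1 h2
  simp only [e1, e2, Matrix.cons_val_zero, Matrix.cons_val_one, Matrix.cons_val] at h1 h2
  refine ⟨![(395) * v 1 + (1071) * v 2 + (1746) * v 3 + (1865) * v 4 + (2794) * v 5 + (3441) * v 6 + (-3519) * v 7,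
      (151) * v 1 + (413) * v 2 + (670) * v 3 + (714) * v 4 + (1072) * v 5 + (1320) * v 6 + (-1361) * v 7,
      (-91) * v 1 + (-245) * v 2 + (-401) * v 3 + (-430) * v 4 + (-642) * v 5 + (-793) * v 6 + (818) * v 7,
      (-151) * v 1 + (-413) * v 2 + (-670) * v 3 + (-714) * v 4 + (-1072) * v 5 + (-1322) * v 6 + (1361) * v 7,
      0],
    (-8) * v 1 + (-24) * v 2 + (-37) * v 3 + (-38) * v 4 + (-59) * v 5 + (-72) * v 6 + (80) * v 7,
    (-8) * v 1 + (-24) * v 2 + (-37) * v 3 + (-38) * v 4 + (-59) * v 5 + (-72) * v 6 + (79) * v 7, ?_⟩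
  funext c
  rw [Fin.sum_univ_five]
  fin_cases c <;>
    simp [lam, g01, g02] <;> omega

theorem hL2a : ∃ cf : Fin 5 → ℤ, ((12 : ℕ) : ℤ) • g01 = ∑ j, cf j • lam j := by
  refine ⟨![-2542, -941, 684, 1152, 4], ?_⟩
  funext c
  rw [Fin.sum_univ_five]
  fin_cases c <;> simp [lam, g01]

theorem hL2b : ∃ cf : Fin 5 → ℤ, ((3 : ℕ) : ℤ) • g02 = ∑ j, cf j • lam j := by
  refine ⟨![778, 290, -204, -343, -1], ?_⟩
  funext c
  rw [Fin.sum_univ_five]
  fin_cases c <;> simp [lam, g02]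

end Cfsg.Agent.Helper11.SchU43
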