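import Cfsg.Agent.Helper19.TCR.LabDefs
import Cfsg.Agent.Helper11.SchU43.Col0P0
import Cfsg.Agent.Helper11.SchU43.Col0P1
import Cfsg.Agent.Helper11.SchU43.Col0P2
import Cfsg.Agent.Helper11.SchU43.Col0P3
import Cfsg.Agent.Helper11.SchU43.Col0P4
import Cfsg.Agent.Helper11.SchU43.Col0P5
import Cfsg.Agent.Helper11.SchU43.Col0P6
import Cfsg.Agent.Helper11.SchU43.Col0P7
import Cfsg.Agent.Helper11.SchU43.Col0P8
import Cfsg.Agent.Helper11.SchU43.Col0P9
import Cfsg.Agent.Helper11.SchU43.Col0P10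
import Cfsg.Agent.Helper11.SchU43.Col0P11
import Cfsg.Agent.Helper11.SchU43.Col0P12
import Cfsg.Agent.Helper11.SchU43.Col0P13
import Cfsg.Agent.Helper11.SchU43.Col0P14
import Cfsg.Agent.Helper11.SchU43.Col0P15

set_option autoImplicit false
set_option linter.all false
set_option maxRecDepth 1000000
set_option maxHeartbeats 0

namespace Cfsg.Agent.Helper11.SchU43

open Cfsg.Agent.Helper19.TCS Cfsg.Agent.Helper19.TCL

noncomputable def col0 : Tr Nat := (.nd (.nd col0_p0 col0_p1 col0_p2 col0_p3) (.nd col0_p4 col0_p5 col0_p6 col0_p7) (.nd col0_p8 col0_p9 col0_p10 col0_p11) (.nd col0_p12 col0_p13 col0_p14 col0_p15))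

end Cfsg.Agent.Helper11.SchU43
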