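import Cfsg.Agent.Helper19.TCR.LabDefs
import Cfsg.Agent.Helper11.SchU43.Col1P0
import Cfsg.Agent.Helper11.SchU43.Col1P1
import Cfsg.Agent.Helper11.SchU43.Col1P2
import Cfsg.Agent.Helper11.SchU43.Col1P3
import Cfsg.Agent.Helper11.SchU43.Col1P4
import Cfsg.Agent.Helper11.SchU43.Col1P5
import Cfsg.Agent.Helper11.SchU43.Col1P6
import Cfsg.Agent.Helper11.SchU43.Col1P7
import Cfsg.Agent.Helper11.SchU43.Col1P8
import Cfsg.Agent.Helper11.SchU43.Col1P9
import Cfsg.Agent.Helper11.SchU43.Col1P10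
import Cfsg.Agent.Helper11.SchU43.Col1P11
import Cfsg.Agent.Helper11.SchU43.Col1P12
import Cfsg.Agent.Helper11.SchU43.Col1P13
import Cfsg.Agent.Helper11.SchU43.Col1P14
import Cfsg.Agent.Helper11.SchU43.Col1P15

set_option autoImplicit false
set_option linter.all false
set_option maxRecDepth 1000000
set_option maxHeartbeats 0

namespace Cfsg.Agent.Helper11.SchU43

open Cfsg.Agent.Helper19.TCS Cfsg.Agent.Helper19.TCL

noncomputable def col1 : Tr Nat := (.nd (.nd col1_p0 col1_p1 col1_p2 col1_p3) (.nd col1_p4 col1_p5 col1_p6 col1_p7) (.nd col1_p8 col1_p9 col1_p10 col1_p11) (.nd col1_p12 col1_p13 col1_p14 col1_p15))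

end Cfsg.Agent.Helper11.SchU43
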