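import Cfsg.Agent.Helper19.TCR.LabDefs
import Cfsg.Agent.Helper11.SchU43.Col2P0
import Cfsg.Agent.Helper11.SchU43.Col2P1
import Cfsg.Agent.Helper11.SchU43.Col2P2
import Cfsg.Agent.Helper11.SchU43.Col2P3
import Cfsg.Agent.Helper11.SchU43.Col2P4
import Cfsg.Agent.Helper11.SchU43.Col2P5
import Cfsg.Agent.Helper11.SchU43.Col2P6
import Cfsg.Agent.Helper11.SchU43.Col2P7
import Cfsg.Agent.Helper11.SchU43.Col2P8
import Cfsg.Agent.Helper11.SchU43.Col2P9
import Cfsg.Agent.Helper11.SchU43.Col2P10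
import Cfsg.Agent.Helper11.SchU43.Col2P11
import Cfsg.Agent.Helper11.SchU43.Col2P12
import Cfsg.Agent.Helper11.SchU43.Col2P13
import Cfsg.Agent.Helper11.SchU43.Col2P14
import Cfsg.Agent.Helper11.SchU43.Col2P15

set_option autoImplicit false
set_option linter.all false
set_option maxRecDepth 1000000
set_option maxHeartbeats 0

namespace Cfsg.Agent.Helper11.SchU43

open Cfsg.Agent.Helper19.TCS Cfsg.Agent.Helper19.TCL

noncomputable def col2 : Tr Nat := (.nd (.nd col2_p0 col2_p1 col2_p2 col2_p3) (.nd col2_p4 col2_p5 col2_p6 col2_p7) (.nd col2_p8 col2_p9 col2_p10 col2_p11) (.nd col2_p12 col2_p13 col2_p14 col2_p15))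

end Cfsg.Agent.Helper11.SchU43
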