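import Cfsg.Agent.Helper19.TCR.LabDefs
import Cfsg.Agent.Helper11.SchU43.Col3P0
import Cfsg.Agent.Helper11.SchU43.Col3P1
import Cfsg.Agent.Helper11.SchU43.Col3P2
import Cfsg.Agent.Helper11.SchU43.Col3P3
import Cfsg.Agent.Helper11.SchU43.Col3P4
import Cfsg.Agent.Helper11.SchU43.Col3P5
import Cfsg.Agent.Helper11.SchU43.Col3P6
import Cfsg.Agent.Helper11.SchU43.Col3P7
import Cfsg.Agent.Helper11.SchU43.Col3P8
import Cfsg.Agent.Helper11.SchU43.Col3P9
import Cfsg.Agent.Helper11.SchU43.Col3P10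
import Cfsg.Agent.Helper11.SchU43.Col3P11
import Cfsg.Agent.Helper11.SchU43.Col3P12
import Cfsg.Agent.Helper11.SchU43.Col3P13
import Cfsg.Agent.Helper11.SchU43.Col3P14
import Cfsg.Agent.Helper11.SchU43.Col3P15

set_option autoImplicit false
set_option linter.all false
set_option maxRecDepth 1000000
set_option maxHeartbeats 0

namespace Cfsg.Agent.Helper11.SchU43

open Cfsg.Agent.Helper19.TCS Cfsg.Agent.Helper19.TCL

noncomputable def col3 : Tr Nat := (.nd (.nd col3_p0 col3_p1 col3_p2 col3_p3) (.nd col3_p4 col3_p5 col3_p6 col3_p7) (.nd col3_p8 col3_p9 col3_p10 col3_p11) (.nd col3_p12 col3_p13 col3_p14 col3_p15))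

end Cfsg.Agent.Helper11.SchU43
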