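import Mathlib
import Cfsg.Agent.Helper11.SchU43.Inst
import Cfsg.Agent.Helper11.SchU43M1.MFacts
import Cfsg.Agent.Helper11.SchU43M2.MFacts
import Cfsg.Agent.Helper23.Schur2.Final

/-! Final assembly for a group of order 3265920 generated by two elements satisfying `rels`:
upper half from the labelled Todd–Coxeter certificate, existence half from two cyclically labelled
coset tables (helper19's pipeline, helper23's two-factor form); generated by helper11's `emit_all.py`. -/

set_option autoImplicit false
set_option linter.all false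
set_option maxRecDepth 100000

namespace Cfsg.Agent.Helper11.SchU43

open Cfsg Cfsg.Agent.Helper19.TCS Cfsg.Agent.Helper19.TCL
  Cfsg.Agent.Helper19.TCM Cfsg.Agent.Helper19.Schur Cfsg.Agent.Helper23.Schur2

universe u

def c1m : Fin 8 → ℤ := ![0, -3, 1, -2, 1, 0, 1, 0]
def c2m : Fin 8 → ℤ := ![0, 0, 2, -3, 1, -1, 2, 0]

theorem relsM1_eq : Cfsg.Agent.Helper11.SchU43M1.relsM = rels := by decide

theorem relsM2_eq : Cfsg.Agent.Helper11.SchU43M2.relsM = rels := by decide

/-- a group of order `3265920` generated by two elements satisfying the relators has Schur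
multiplier `ℤ/12 × ℤ/3`. -/
theorem schur_of_gens {G : Type u} [Group G] (hcard : Nat.card G = 3265920) (x y : G)
    (hxy : Subgroup.closure {x, y} = (⊤ : Subgroup G))
    (hrel : ∀ w ∈ rels, prodw (gc2 x y) w = 1) :
    Cfsg.HasSchurMultiplier G (Multiplicative (ZMod 12 × ZMod 3)) := by
  haveI : Finite G := Nat.finite_of_card_ne_zero (by rw [hcard]; norm_num)
  have hT1' : ∀ (Δ : Type u) [Group Δ] (a b : Δ), Subgroup.closure {a, b} = (⊤ : Subgroup Δ) →
      (∀ w ∈ rels, prodw (gc2 a b) w = 1) → Finite Δ ∧ Nat.card Δ ≤ Nat.card G := by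
    intro Δ _ a b h1 h2
    rw [hcard]
    exact hT1 Δ a b h1 h2
  have hM1 := Cfsg.Agent.Helper11.SchU43M1.relsM_ok
  rw [relsM1_eq] at hM1
  have hM2 := Cfsg.Agent.Helper11.SchU43M2.relsM_ok
  rw [relsM2_eq] at hM2
  apply hasSchurMultiplier_of_halves
  · exact exists_stem_of_table2 x y hxy rels hT1' hrel
      Cfsg.Agent.Helper11.SchU43M1.modelOK Cfsg.Agent.Helper11.SchU43M2.modelOK
      (by norm_num) (by norm_num)
      Cfsg.Agent.Helper11.SchU43M1.phisM Cfsg.Agent.Helper11.SchU43M2.phisM
      (by decide) (by decide) (by decide) hM1 hM2 8 e1 e2 c1m c2m he1 he2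
      (by constructor <;> rw [Efun_eq] <;> decide) (by constructor <;> rw [Efun_eq] <;> decide)
      (by rw [Fin.sum_univ_eight]; decide) (by rw [Fin.sum_univ_eight]; decide)
      (by rw [Fin.sum_univ_eight]; decide) (by rw [Fin.sum_univ_eight]; decide)
      [2] [6] (by decide) (by decide) (by decide) (by decide)
  · exact exists_surjective_of_stem2 x y hxy rels 8 (by decide) hrel hT1' 5 lam hT2
      e1 e2 he1 he2 c1 c2 g01 g02 12 3 hc1 hc2 hg01 hg02 hL1 hL2a hL2b

end Cfsg.Agent.Helper11.SchU43

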